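import Cfsg.Agent.Lib.ZStarPrimePower.Basic

/-!
`Z*` for an involution that is alone in its Sylow 2-subgroup, from the classification of 2-groups with one
involution (the text of S0016) and the Brauer–Suzuki theorem (the text of S0201).

Main result: `uniqueInvolutionZStar`.
-/

set_option autoImplicit false

namespace Cfsg.Agent.ZStarPrimePower

universe u

/-- The statement of S0016, for `p = 2`. -/
def UniqueInvolutionClassification : Prop :=
  ∀ (Q : Type u) [Group Q] [Finite Q], IsPGroup 2 Q →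
    (∀ H K : Subgroup Q, Nat.card H = 2 → Nat.card K = 2 → H = K) →
    IsCyclic Q ∨ ∃ n : ℕ, Nonempty (Q ≃* QuaternionGroup (2 ^ n))

/-- The statement of S0201. -/
def BrauerSuzuki : Prop :=
  ∀ (K : Type u) [Group K] [Finite K] (S : Sylow 2 K) (n : ℕ),
    ((S : Subgroup K) ≃* QuaternionGroup (2 ^ (n + 1))) →
    (∀ N : Subgroup K, N.Normal → Odd (Nat.card N) → N = ⊥) → Nat.card (Subgroup.center K) = 2

theorem cyclic_case (K : Type u) [Group K] [Finite K] (d : K) (T : Sylow 2 K) (hd : orderOf d = 2)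
    (hdT : d ∈ T) (hc : IsCyclic (T : Subgroup K)) :
    ∃ N : Subgroup K, N.Normal ∧ Odd (Nat.card N) ∧ ∀ g : K, d * g * d⁻¹ * g⁻¹ ∈ N := by
  haveI : Fact (Nat.Prime 2) := ⟨Nat.prime_two⟩
  have hpos : 2 ∣ Nat.card K := hd ▸ orderOf_dvd_natCard d
  have hp : (Nat.card K).minFac = 2 := (Nat.minFac_eq_two_iff _).2 hpos
  have hC := IsCyclic.isComplement' hp hc
  set φ := MonoidHom.transferSylow T (IsCyclic.normalizer_le_centralizer hp hc)
  refine ⟨φ.ker, inferInstance, ?_, fun g => ?_⟩
  · rw [← hC.index_eq_card]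
    exact Nat.not_even_iff_odd.1 fun h => T.not_dvd_index (even_iff_two_dvd.1 h)
  · rw [MonoidHom.mem_ker, map_mul, map_mul, map_mul, map_inv, map_inv]
    haveI := hc.isMulCommutative
    rw [mul_comm' (φ d) (φ g), mul_inv_cancel_right, mul_inv_cancel]

theorem uniqueInvolutionZStar (hclass : UniqueInvolutionClassification.{u}) (hbs : BrauerSuzuki.{u}) :
    UniqueInvolutionZStar.{u} := by
  intro K _ _ d T hd hdT huniq
  haveI : Fact (Nat.Prime 2) := ⟨Nat.prime_two⟩
  have huniq' : ∀ H : Subgroup (T : Subgroup K), Nat.card H = 2 → H = Subgroup.zpowers ⟨d, hdT⟩ := by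
    intro H hH
    have hmem : (⟨d, hdT⟩ : (T : Subgroup K)) ∈ H := by
      obtain ⟨x, hx⟩ := exists_prime_orderOf_dvd_card' (G := H) 2 (by rw [hH])
      have h2 : orderOf (((x : (T : Subgroup K)) : K)) = 2 := by
        rw [Subgroup.orderOf_coe, Subgroup.orderOf_coe]; exact hx
      have heq : (x : (T : Subgroup K)) = ⟨d, hdT⟩ := Subtype.ext (huniq _ (x : (T : Subgroup K)).2 h2)
      exact heq ▸ x.2
    refine (Subgroup.eq_of_le_of_card_ge (Subgroup.zpowers_le.2 hmem) ?_).symm
    rw [hH, Nat.card_zpowers, ← Subgroup.orderOf_coe, hd]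
  rcases hclass (T : Subgroup K) T.isPGroup' (fun H L hH hL => (huniq' H hH).trans (huniq' L hL).symm) with
    hc | ⟨n, ⟨e⟩⟩
  · exact cyclic_case K d T hd hdT hc
  rcases n with _ | n
  · refine cyclic_case K d T hd hdT ?_
    haveI := QuaternionGroup.quaternionGroup_one_isCyclic
    exact isCyclic_of_surjective e.symm.toMonoidHom e.symm.surjective
  set O := Cfsg.pPrimeCore 2 K
  let f := QuotientGroup.mk' O
  have hf : Function.Surjective f := QuotientGroup.mk'_surjective O
  have hO : ∀ x : (T : Subgroup K), (x : K) ∈ O → x = 1 := by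
    intro x hx
    obtain ⟨k, hk⟩ := IsPGroup.iff_orderOf.1 T.isPGroup' x
    rw [← Subgroup.orderOf_coe] at hk
    have hdvd : 2 ^ k ∣ Nat.card O := hk ▸ Subgroup.orderOf_dvd_natCard O hx
    have h1 : orderOf (x : K) = 1 := by
      rw [hk]
      exact Nat.Coprime.eq_one_of_dvd ((Cores.coprime_card_pPrimeCore 2).symm.pow_left k) hdvd
    exact Subtype.ext (orderOf_eq_one_iff.1 h1)
  have hinj : Function.Injective (f.subgroupMap (T : Subgroup K)) := by
    rw [injective_iff_map_eq_one]
    intro x hx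
    exact hO x ((QuotientGroup.eq_one_iff _).1 (congrArg Subtype.val hx))
  let e' : (T : Subgroup K) ≃* ↥((T : Subgroup K).map f) :=
    MulEquiv.ofBijective (f.subgroupMap (T : Subgroup K)) ⟨hinj, f.subgroupMap_surjective _⟩
  have hcard := hbs (K ⧸ O) (T.mapSurjective hf) n (e'.symm.trans e) fun N hN hodd => by
    haveI := hN
    exact le_bot_iff.1 (Cores.pPrimeCore_quotient_self (G := K) 2 ▸
      Cores.le_pPrimeCore hN (Nat.coprime_two_right.2 hodd))
  obtain ⟨z, hz⟩ := exists_prime_orderOf_dvd_card' (G := Subgroup.center (K ⧸ O)) 2 (by rw [hcard])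
  have hz2 : orderOf (z : K ⧸ O) = 2 := by rw [Subgroup.orderOf_coe]; exact hz
  have hzT : (z : K ⧸ O) ∈ (T : Subgroup K).map f := by
    set P := T.mapSurjective hf
    haveI : (Subgroup.zpowers (z : K ⧸ O)).Normal := ⟨fun m hm g => by
      have hmc : m ∈ Subgroup.center (K ⧸ O) := (Subgroup.zpowers_le.2 z.2) hm
      rwa [Subgroup.mem_center_iff.1 hmc g, mul_inv_cancel_right]⟩
    have hp : IsPGroup 2 (Subgroup.zpowers (z : K ⧸ O)) :=
      IsPGroup.of_card (n := 1) (by rw [Nat.card_zpowers, hz2, pow_one])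
    exact hp.le_sylow_of_normal P (Subgroup.mem_zpowers _)
  obtain ⟨t, ht, htz⟩ := hzT
  have ht2 : orderOf t = 2 := by
    have h1 : orderOf (f.subgroupMap (T : Subgroup K) ⟨t, ht⟩) = orderOf (⟨t, ht⟩ : (T : Subgroup K)) :=
      orderOf_injective (f.subgroupMap (T : Subgroup K)) hinj _
    rw [← Subgroup.orderOf_coe, ← Subgroup.orderOf_coe] at h1
    exact h1.symm.trans ((congrArg orderOf htz).trans hz2)
  have htd := huniq t ht ht2
  refine ⟨O, inferInstance, Nat.coprime_two_right.1 (Cores.coprime_card_pPrimeCore 2), fun g => ?_⟩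
  refine (QuotientGroup.eq_one_iff _).1 ?_
  show f (d * g * d⁻¹ * g⁻¹) = 1
  have hc : f g * f d = f d * f g := by
    rw [← htd, htz]; exact Subgroup.mem_center_iff.1 z.2 _
  rw [map_mul, map_mul, map_mul, map_inv, map_inv, ← hc, mul_inv_cancel_right, mul_inv_cancel]

end Cfsg.Agent.ZStarPrimePower
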