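/-
`Z*` for a lone involution of a Sylow 2-subgroup, unconditional (S0016 and S0201), and the resulting `Goal`.

* `uniqueInvolutionZStar_proved`, `goal`
-/
import Cfsg.Agent.Lib.ZStarPrimePower.UniqueInvolution
import Cfsg.Agent.S0016
import Cfsg.Agent.S0201

set_option autoImplicit false

namespace Cfsg.Agent.ZStarPrimePower

universe u

theorem uniqueInvolutionZStar_proved : UniqueInvolutionZStar.{u} :=
  uniqueInvolutionZStar
    (fun Q _ _ hQ huniq => by
      haveI : Fact (Nat.Prime 2) := ⟨Nat.prime_two⟩
      rcases S0016.result 2 hQ huniq with h | ⟨-, h⟩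
      · exact Or.inl h
      · exact Or.inr h)
    (fun K _ _ S n e hO => S0201.result S n e hO)

theorem goal {G : Type u} [Group G] [Finite G] {p : ℕ} (hp : p.Prime) (hp2 : p ≠ 2)
    {d : G} (hd : orderOf d = 2) (hprod : ProdPow p d) : Goal p d :=
  goal_of_unique_case uniqueInvolutionZStar_proved hp hp2 hd hprod

end Cfsg.Agent.ZStarPrimePower
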