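import Cfsg.Agent.Lib.Involution.Basic
import Cfsg.Agent.Lib.Cores.Basic
import Cfsg.Agent.S5562

/-!
An involution whose conjugates pairwise have products of `p`-power order (`p` odd) is central modulo `O_p(G)`.

Main results (namespace `Cfsg.Agent.ZStarPrimePower`):
* `goal_of_odd_normal`: the conclusion, if the commutators of `d` lie in a normal subgroup of odd order;
* `goal_of_unique_case`: the conclusion, reduced by an elementary induction to groups in which `d` is the only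
  involution of a Sylow 2-subgroup (the hypothesis `UniqueInvolutionZStar`).
-/

set_option autoImplicit false

namespace Cfsg.Agent.ZStarPrimePower

open Subgroup

universe u

variable {G : Type u} [Group G]

/-- The products of conjugates of `d` have `p`-power order. -/
def ProdPow (p : ℕ) (d : G) : Prop :=
  ∀ a ∈ conjugatesOf d, ∀ b ∈ conjugatesOf d, ∃ k : ℕ, orderOf (a * b) = p ^ k

/-- The products of conjugates of `d` lie in `O_p`. -/
def Goal (p : ℕ) (d : G) : Prop :=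
  ∀ a ∈ conjugatesOf d, ∀ b ∈ conjugatesOf d, a * b ∈ Cfsg.pCore p G

/-- The orbit of `d` under conjugation by `H`. -/
def orb (H : Subgroup G) (d : G) : Set G := Set.range fun h : H => (h : G) * d * (h : G)⁻¹

theorem orb_mono {H K : Subgroup G} (h : H ≤ K) (d : G) : orb H d ⊆ orb K d := by
  rintro _ ⟨x, rfl⟩
  exact ⟨⟨x, h x.2⟩, rfl⟩

theorem orb_subset (H : Subgroup G) (d : G) : orb H d ⊆ conjugatesOf d := by
  rintro _ ⟨h, rfl⟩
  exact isConj_iff.2 ⟨h, rfl⟩

theorem orb_top (d : G) : orb (⊤ : Subgroup G) d = conjugatesOf d := by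
  refine Set.Subset.antisymm (orb_subset _ d) fun a ha => ?_
  obtain ⟨g, hg⟩ := isConj_iff.1 ha
  exact ⟨⟨g, Subgroup.mem_top g⟩, hg⟩

theorem card_orb_mul [Finite G] (H : Subgroup G) (d : G) :
    Nat.card (orb H d) * Nat.card ↥(H ⊓ centralizer ({d} : Set G)) = Nat.card H := by
  let C : Subgroup H := (centralizer ({d} : Set G)).subgroupOf H
  have key : ∀ a b : H,
      (a : G) * d * (a : G)⁻¹ = (b : G) * d * (b : G)⁻¹ ↔ a⁻¹ * b ∈ C := by
    intro a b
    show _ ↔ ((a⁻¹ * b : H) : G) ∈ centralizer ({d} : Set G)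
    rw [Involution.mem_centralizer_singleton]
    push_cast
    constructor
    · intro h
      have h2 : (a : G)⁻¹ * b * d = (a : G)⁻¹ * ((b : G) * d * (b : G)⁻¹) * b := by group
      rw [h2, ← h]; group
    · intro h
      have h2 : (b : G) * d * (b : G)⁻¹ = (a : G) * ((a : G)⁻¹ * b * d) * (b : G)⁻¹ := by group
      rw [h2, h]; group
  let f : H ⧸ C → orb H d := Quotient.lift (fun h : H => (⟨_, ⟨h, rfl⟩⟩ : orb H d)) fun a b hab =>
    Subtype.ext ((key a b).2 (QuotientGroup.leftRel_apply.1 hab))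
  have hf : Function.Bijective f := by
    constructor
    · intro x y
      induction x using QuotientGroup.induction_on with | _ a => ?_
      induction y using QuotientGroup.induction_on with | _ b => ?_
      intro h
      exact QuotientGroup.eq.2 ((key a b).1 (congrArg Subtype.val h))
    · rintro ⟨_, h, rfl⟩
      exact ⟨QuotientGroup.mk h, rfl⟩
  have hC : Nat.card C = Nat.card ↥(H ⊓ centralizer ({d} : Set G)) :=
    Nat.card_congr
      ⟨fun c => ⟨((c : H) : G), (c : H).2, c.2⟩, fun c => ⟨⟨c, c.2.1⟩, c.2.2⟩, fun _ => rfl, fun _ => rfl⟩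
  rw [← Nat.card_congr (Equiv.ofBijective f hf), ← hC, ← Subgroup.card_eq_card_quotient_mul_card_subgroup]

theorem orb_eq_of_pow [Finite G] {p : ℕ} (hp : p.Prime) {H K : Subgroup G} (hHK : H ≤ K) (d : G) {i v : ℕ}
    (hi : Nat.card (orb K d) = p ^ i) (hv : Nat.card H = p ^ v) (hK : ¬ p ^ (v + 1) ∣ Nat.card K) :
    orb H d = orb K d := by
  have h1 := card_orb_mul H d
  have h2 := card_orb_mul K d
  rw [hv] at h1
  rw [hi] at h2
  obtain ⟨e, -, he⟩ := (Nat.dvd_prime_pow hp).1 (h1 ▸ Dvd.intro_left _ rfl)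
  have hdvd : p ^ e ∣ Nat.card ↥(K ⊓ centralizer ({d} : Set G)) := he ▸ card_dvd_of_le (inf_le_inf_right _ hHK)
  have hle : i + e ≤ v := by
    by_contra hc
    refine hK ?_
    calc p ^ (v + 1) ∣ p ^ (i + e) := pow_dvd_pow _ (by omega)
      _ ∣ _ := by rw [pow_add, ← h2]; exact Nat.mul_dvd_mul_left _ hdvd
  refine Set.eq_of_subset_of_ncard_le (orb_mono hHK d) ?_ (Set.toFinite _)
  rw [← Nat.card_coe_set_eq, ← Nat.card_coe_set_eq, hi]
  rw [he] at h1
  have : p ^ i * p ^ e ≤ Nat.card (orb H d) * p ^ e := by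
    rw [h1, ← pow_add]; exact Nat.pow_le_pow_right hp.pos hle
  exact Nat.le_of_mul_le_mul_right this (pow_pos hp.pos e)

theorem orderOf_of_mem {d a : G} (hd : orderOf d = 2) (ha : a ∈ conjugatesOf d) : orderOf a = 2 :=
  (Involution.orderOf_eq_of_isConj ha).symm.trans hd

theorem odd_prod {p : ℕ} {d : G} (hp : p.Prime) (hp2 : p ≠ 2) (h : ProdPow p d) :
    ∀ a ∈ conjugatesOf d, ∀ b ∈ conjugatesOf d, Odd (orderOf (a * b)) := by
  intro a ha b hb
  obtain ⟨k, hk⟩ := h a ha b hb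
  rw [hk]
  exact (hp.odd_of_ne_two hp2).pow

/-- A conjugate `a` of `d` is the conjugate of `d` by a power of `d * a`. -/
theorem exists_conj_pow {p : ℕ} {d : G} (hp : p.Prime) (hp2 : p ≠ 2) (hd : orderOf d = 2) (h : ProdPow p d)
    {a : G} (ha : a ∈ conjugatesOf d) : ∃ m : ℕ, (d * a) ^ m * d * ((d * a) ^ m)⁻¹ = a := by
  have ha2 := orderOf_of_mem hd ha
  obtain ⟨m, hm⟩ := odd_prod hp hp2 h d mem_conjugatesOf_self a ha
  refine ⟨m, ?_⟩
  have h1 := Involution.conj_left_zpow hd ha2 (m : ℤ)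
  rw [zpow_natCast] at h1
  have h2 : (d * a) ^ (-(2 * (m : ℤ))) = (d * a) ^ (1 : ℤ) :=
    orderOf_dvd_sub_iff_zpow_eq_zpow.1 ⟨-1, by rw [hm]; push_cast; ring⟩
  rw [h1, h2, zpow_one, Involution.left_mul_mul_left hd ha2]

theorem goal_of_pgroup [Finite G] {p : ℕ} {d : G} (hd : orderOf d = 2) (P : Subgroup G) (hP : IsPGroup p P)
    (h : ∀ a ∈ conjugatesOf d, d * a ∈ P) : Goal p d := by
  let S : Set G := {x | ∃ a ∈ conjugatesOf d, ∃ b ∈ conjugatesOf d, a * b = x}
  have hSP : S ⊆ P := by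
    rintro x ⟨a, ha, b, hb, rfl⟩
    have : a * b = (d * a)⁻¹ * (d * b) := by
      rw [mul_inv_rev, Involution.inv_eq (orderOf_of_mem hd ha)]; group
    rw [this]
    exact P.mul_mem (P.inv_mem (h a ha)) (h b hb)
  have hn : (closure S).Normal := by
    have : ∀ g : G, closure S ≤ (closure S).comap (MulAut.conj g).toMonoidHom := by
      intro g
      rw [Subgroup.closure_le]
      rintro x ⟨a, ha, b, hb, rfl⟩
      exact Subgroup.subset_closure ⟨g * a * g⁻¹, IsConj.trans ha (isConj_iff.2 ⟨g, rfl⟩), g * b * g⁻¹,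
        IsConj.trans hb (isConj_iff.2 ⟨g, rfl⟩), by simp [MulAut.conj_apply, mul_assoc]⟩
    exact ⟨fun n hn g => this g hn⟩
  intro a ha b hb
  exact Cores.le_pCore hn (hP.to_le ((Subgroup.closure_le _).2 hSP)) (Subgroup.subset_closure ⟨a, ha, b, hb, rfl⟩)

theorem commutator_eq_mul {d : G} (hd : orderOf d = 2) (g : G) :
    d * g * d⁻¹ * g⁻¹ = d * (g * d * g⁻¹) := by
  rw [Involution.inv_eq hd]; group

/-- An involution normalises a Sylow subgroup of a normal subgroup of odd order. -/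
theorem exists_invariant_sylow [Finite G] (N : Subgroup G) [N.Normal] (hN : Odd (Nat.card N)) {d : G}
    (hd : orderOf d = 2) (q : ℕ) [Fact q.Prime] :
    ∃ Q : Subgroup G, Q ≤ N ∧ Nat.card Q = q ^ (Nat.card N).factorization q ∧ ∀ x ∈ Q, d * x * d⁻¹ ∈ Q := by
  obtain ⟨P⟩ : Nonempty (Sylow q N) := inferInstance
  set Q := (P : Subgroup N).map N.subtype with hQ
  have hQN : Q ≤ N := Subgroup.map_subtype_le _
  have htop := Sylow.normalizer_sup_eq_top P
  obtain ⟨h, hh, n, hn, hdn⟩ := Subgroup.mem_sup_of_normal_right.1 (htop ▸ Subgroup.mem_top d)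
  -- `t = h ^ |N|` is an involution normalising `Q` in the coset `d N`
  obtain ⟨m, hm⟩ := hN
  have hdh : d * h ∈ N := by
    have h1 : d * h = d * d * n⁻¹ := by rw [← hdn]; group
    rw [h1, Involution.mul_self hd, one_mul]
    exact N.inv_mem hn
  set t := h ^ (2 * m + 1) with ht
  have hdt : ∀ k : ℕ, d ^ k * h ^ k ∈ N := by
    intro k
    have hbar : (QuotientGroup.mk' N d)⁻¹ = QuotientGroup.mk' N h := by
      rw [inv_eq_iff_mul_eq_one, ← map_mul]
      exact (QuotientGroup.eq_one_iff _).2 hdh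
    refine (QuotientGroup.eq_one_iff _).1 ?_
    show QuotientGroup.mk' N (d ^ k * h ^ k) = 1
    rw [map_mul, map_pow, map_pow, ← hbar, inv_pow, mul_inv_cancel]
  have hhh : h * h ∈ N := by
    have := hdt 2
    rwa [pow_two, Involution.mul_self hd, one_mul, pow_two] at this
  have htt : t * t = 1 := by
    rw [ht, ← pow_add, ← two_mul, pow_mul, pow_two, ← hm]
    exact orderOf_dvd_iff_pow_eq_one.1 (Subgroup.orderOf_dvd_natCard _ hhh)
  have hdtN : d * t ∈ N := by
    have := hdt (2 * m + 1)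
    rwa [pow_succ, pow_mul, pow_two d, Involution.mul_self hd, one_pow, one_mul] at this
  have ht1 : t ≠ 1 := by
    intro h1
    rw [h1, mul_one] at hdtN
    have hdvd := Subgroup.orderOf_dvd_natCard _ hdtN
    rw [hd, hm] at hdvd
    omega
  have ht2 := Involution.orderOf_of_sq htt ht1
  have hodd : Odd (orderOf (t * d)) := by
    have h1 : t * d = (d * t)⁻¹ := by rw [mul_inv_rev, Involution.inv_eq ht2, Involution.inv_eq hd]
    rw [h1, orderOf_inv]
    exact Odd.of_dvd_nat ⟨m, hm⟩ (Subgroup.orderOf_dvd_natCard _ hdtN)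
  obtain ⟨l, hl⟩ := hodd
  have hconj : (t * d) ^ l * t * ((t * d) ^ l)⁻¹ = d := by
    have h1 := Involution.conj_left_zpow ht2 hd (l : ℤ)
    rw [zpow_natCast] at h1
    have h2 : (t * d) ^ (-(2 * (l : ℤ))) = (t * d) ^ (1 : ℤ) :=
      orderOf_dvd_sub_iff_zpow_eq_zpow.1 ⟨-1, by rw [hl]; push_cast; ring⟩
    rw [h1, h2, zpow_one, Involution.left_mul_mul_left ht2 hd]
  have htN : (t * d) ^ l ∈ N := by
    refine pow_mem ?_ l
    have h1 : t * d = (d * t)⁻¹ := by rw [mul_inv_rev, Involution.inv_eq ht2, Involution.inv_eq hd]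
    rw [h1]; exact N.inv_mem hdtN
  set c := (t * d) ^ l with hc
  refine ⟨Q.map (MulAut.conj c).toMonoidHom, ?_, ?_, ?_⟩
  · rintro _ ⟨x, hx, rfl⟩
    simpa [MulAut.conj_apply] using N.mul_mem (N.mul_mem htN (hQN hx)) (N.inv_mem htN)
  · rw [Subgroup.card_map_of_injective (MulAut.conj c).injective,
      Subgroup.card_map_of_injective N.subtype_injective, Sylow.card_eq_multiplicity]
  · rintro _ ⟨x, hx, rfl⟩
    refine ⟨t * x * t⁻¹, (Subgroup.mem_normalizer_iff.1 (pow_mem hh _) x).1 hx, ?_⟩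
    simp only [MulEquiv.coe_toMonoidHom, MulAut.conj_apply]
    rw [← hconj]; group

theorem eq_one_of_coprime_orders {p q : ℕ} (hp : p.Prime) (hq : q.Prime) (hne : p ≠ q) {x : G} {i j : ℕ}
    (hi : orderOf x = p ^ i) (hj : orderOf x ∣ q ^ j) : x = 1 := by
  refine orderOf_eq_one_iff.1 (Nat.eq_one_of_dvd_coprimes ((Nat.coprime_primes hp hq).2 hne |>.pow i j) ?_ hj)
  rw [hi]

theorem goal_of_odd_normal [Finite G] {p : ℕ} (hp : p.Prime) (hp2 : p ≠ 2) {d : G} (hd : orderOf d = 2)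
    (hprod : ProdPow p d) (N : Subgroup G) [N.Normal] (hN : Odd (Nat.card N))
    (hcom : ∀ g : G, d * g * d⁻¹ * g⁻¹ ∈ N) : Goal p d := by
  haveI : Fact p.Prime := ⟨hp⟩
  obtain ⟨P, hPN, hPcard, hPinv⟩ := exists_invariant_sylow N hN hd p
  have horb : conjugatesOf d ⊆ orb N d := by
    intro a ha
    obtain ⟨m, hm⟩ := exists_conj_pow hp hp2 hd hprod ha
    obtain ⟨g, rfl⟩ := isConj_iff.1 ha
    have hmem : d * (g * d * g⁻¹) ∈ N := commutator_eq_mul hd g ▸ hcom g
    exact ⟨⟨_, pow_mem hmem m⟩, hm⟩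
  have hN0 : Nat.card N ≠ 0 := Nat.card_pos.ne'
  obtain ⟨i, hi⟩ : ∃ i, Nat.card (orb N d) = p ^ i := by
    refine ⟨_, Nat.eq_prime_pow_of_unique_prime_dvd ?_ ?_⟩
    · exact (Nat.card_ne_zero).2 ⟨⟨⟨_, 1, rfl⟩⟩, inferInstance⟩
    intro q hq hqdvd
    by_contra hne
    haveI : Fact q.Prime := ⟨hq⟩
    obtain ⟨Q, hQN, hQcard, hQinv⟩ := exists_invariant_sylow N hN hd q
    have hQC : Q ≤ N ⊓ centralizer ({d} : Set G) := by
      refine le_inf hQN fun x hx => ?_
      rw [Involution.mem_centralizer_singleton]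
      have hmem : d * x * d⁻¹ * x⁻¹ ∈ Q := Q.mul_mem (hQinv x hx) (Q.inv_mem hx)
      obtain ⟨k, hk⟩ := hprod d mem_conjugatesOf_self (x * d * x⁻¹) (isConj_iff.2 ⟨x, rfl⟩)
      rw [← commutator_eq_mul hd x] at hk
      have h1 := eq_one_of_coprime_orders hp hq (Ne.symm hne) hk (hQcard ▸ Subgroup.orderOf_dvd_natCard _ hmem)
      calc x * d = (d * x * d⁻¹ * x⁻¹) * x * d := by rw [h1, one_mul]
        _ = d * x := by group
    have h1 := card_orb_mul N d
    have h2 : q * q ^ (Nat.card N).factorization q ∣ Nat.card N := by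
      conv_rhs => rw [← h1]
      exact Nat.mul_dvd_mul hqdvd (hQcard ▸ card_dvd_of_le hQC)
    rw [← pow_succ'] at h2
    exact Nat.pow_succ_factorization_not_dvd hN0 hq h2
  have heq := orb_eq_of_pow hp hPN d hi hPcard (Nat.pow_succ_factorization_not_dvd hN0 hp)
  refine goal_of_pgroup hd P (IsPGroup.of_card hPcard) fun a ha => ?_
  obtain ⟨y, hy⟩ := heq.symm ▸ horb ha
  rw [← hy]
  show d * ((y : G) * d * (y : G)⁻¹) ∈ P
  rw [← commutator_eq_mul hd]
  exact P.mul_mem (hPinv y y.2) (P.inv_mem y.2)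

/-- `Z*` in the case where the involution is alone in its Sylow 2-subgroup (Burnside, Brauer–Suzuki). -/
def UniqueInvolutionZStar : Prop :=
  ∀ (K : Type u) [Group K] [Finite K] (d : K) (T : Sylow 2 K), orderOf d = 2 → d ∈ T →
    (∀ t ∈ T, orderOf t = 2 → t = d) →
    ∃ N : Subgroup K, N.Normal ∧ Odd (Nat.card N) ∧ ∀ g : K, d * g * d⁻¹ * g⁻¹ ∈ N

/-- The inductive hypothesis. -/
def SmallerOK (p n : ℕ) : Prop :=
  ∀ (K : Type u) [Group K] [Finite K] (d : K), Nat.card K < n → orderOf d = 2 → ProdPow p d → Goal p d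

theorem sub_class [Finite G] {p : ℕ} (hp : p.Prime) (hp2 : p ≠ 2) {d : G} (hd : orderOf d = 2)
    (hprod : ProdPow p d) (ih : SmallerOK.{u} p (Nat.card G)) (K : Subgroup G) (hK : K ≠ ⊤) (hdK : d ∈ K) :
    ∃ O : Subgroup G, O ≤ K ∧ IsPGroup p O ∧ (∀ k ∈ K, ∀ x ∈ O, k * x * k⁻¹ ∈ O) ∧
      (∀ a ∈ conjugatesOf d, a ∈ K → ∃ h ∈ O, h * d * h⁻¹ = a) ∧
      ∀ R : Subgroup G, R ≤ K → IsPGroup p R → (∀ k ∈ K, ∀ x ∈ R, k * x * k⁻¹ ∈ R) → R ≤ O := by
  have hlt : Nat.card K < Nat.card G := by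
    refine lt_of_le_of_ne (Subgroup.card_le_card_group K) fun h => hK ?_
    exact (Subgroup.card_eq_iff_eq_top K).1 h
  set dK : K := ⟨d, hdK⟩
  have hdK2 : orderOf dK = 2 := by rw [← Subgroup.orderOf_coe]; exact hd
  have hsub : ∀ a : K, a ∈ conjugatesOf dK → (a : G) ∈ conjugatesOf d := by
    intro a ha
    obtain ⟨c, rfl⟩ := isConj_iff.1 ha
    exact isConj_iff.2 ⟨c, rfl⟩
  have hPP : ProdPow p dK := by
    intro a ha b hb
    obtain ⟨k, hk⟩ := hprod a (hsub a ha) b (hsub b hb)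
    exact ⟨k, by rw [← Subgroup.orderOf_coe]; exact hk⟩
  have hgoal := ih K dK hlt hdK2 hPP
  refine ⟨(Cfsg.pCore p K).map K.subtype, Subgroup.map_subtype_le _, (Cores.isPGroup_pCore p K).map _, ?_, ?_, ?_⟩
  · rintro k hk _ ⟨x, hx, rfl⟩
    exact ⟨⟨k, hk⟩ * x * ⟨k, hk⟩⁻¹, (Cores.pCore_normal p K).conj_mem x hx _, rfl⟩
  · intro a ha haK
    obtain ⟨m, hm⟩ := exists_conj_pow hp hp2 hd hprod ha
    have hdaK : d * a ∈ K := K.mul_mem hdK haK
    have haconj : (⟨a, haK⟩ : K) ∈ conjugatesOf dK :=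
      isConj_iff.2 ⟨⟨(d * a) ^ m, pow_mem hdaK m⟩, Subtype.ext hm⟩
    refine ⟨(d * a) ^ m, pow_mem ?_ m, hm⟩
    exact ⟨dK * ⟨a, haK⟩, hgoal dK mem_conjugatesOf_self _ haconj, rfl⟩
  · intro R hRK hR hRn
    have hn : (R.subgroupOf K).Normal := ⟨fun x hx k => hRn k k.2 x hx⟩
    intro x hx
    exact ⟨⟨x, hRK hx⟩, Cores.le_pCore hn hR.comap_subtype (Subgroup.mem_subgroupOf.2 hx), rfl⟩

/-- For a non-central involution `y` commuting with `d`, the conjugates of `d` commuting with `y`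
are `p^i` in number and are conjugates of `d` by elements centralising `y`. -/
theorem class_in_centralizer [Finite G] {p : ℕ} (hp : p.Prime) (hp2 : p ≠ 2) {d : G} (hd : orderOf d = 2)
    (hprod : ProdPow p d) (ih : SmallerOK.{u} p (Nat.card G)) {y : G} (hy : y ∉ center G) (hdy : Commute d y) :
    (∃ i, Nat.card {a : G | a ∈ conjugatesOf d ∧ Commute a y} = p ^ i) ∧
      ∀ a ∈ conjugatesOf d, Commute a y → ∃ h : G, Commute h y ∧ h * d * h⁻¹ = a := by
  haveI : Fact p.Prime := ⟨hp⟩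
  set K := centralizer ({y} : Set G)
  have hK : K ≠ ⊤ := by
    intro h
    refine hy (Subgroup.mem_center_iff.2 fun g => ?_)
    have : g ∈ K := h ▸ Subgroup.mem_top g
    exact Involution.mem_centralizer_singleton.1 this
  obtain ⟨O, hOK, hOp, -, hcl, -⟩ := sub_class hp hp2 hd hprod ih K hK
    (Involution.mem_centralizer_singleton.2 hdy.eq)
  have hOy : ∀ h ∈ O, Commute h y := fun h hh => Involution.mem_centralizer_singleton.1 (hOK hh)
  have heq : {a : G | a ∈ conjugatesOf d ∧ Commute a y} = orb O d := by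
    ext a
    constructor
    · rintro ⟨ha, hay⟩
      obtain ⟨h, hh, hha⟩ := hcl a ha (Involution.mem_centralizer_singleton.2 hay.eq)
      exact ⟨⟨h, hh⟩, hha⟩
    · rintro ⟨h, rfl⟩
      exact ⟨orb_subset O d ⟨h, rfl⟩, ((hOy h h.2).mul_left hdy).mul_left (hOy h h.2).inv_left⟩
  refine ⟨?_, fun a ha hay => ?_⟩
  · rw [heq]
    obtain ⟨v, hv⟩ := IsPGroup.iff_card.1 hOp
    obtain ⟨i, -, hi⟩ := (Nat.dvd_prime_pow hp).1 (hv ▸ Dvd.intro _ (card_orb_mul O d))
    exact ⟨i, hi⟩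
  · obtain ⟨h, hh, hha⟩ := hcl a ha (Involution.mem_centralizer_singleton.2 hay.eq)
    exact ⟨h, hOy h hh, hha⟩

theorem card_class_pow [Finite G] {p : ℕ} (hp : p.Prime) (hp2 : p ≠ 2) {d : G} (hd : orderOf d = 2)
    (hprod : ProdPow p d) (ih : SmallerOK.{u} p (Nat.card G))
    (hZ : ∀ y ∈ center G, orderOf y ≠ 2) {x : G} (hx : orderOf x = 2) (hxd : x ≠ d) (hdx : Commute d x) :
    ∃ r, Nat.card (conjugatesOf d) = p ^ r := by
  have hodd := odd_prod hp hp2 hprod
  obtain ⟨⟨i, hi⟩, hAconj⟩ := class_in_centralizer hp hp2 hd hprod ih (fun h => hZ x h hx) hdx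
  have hxD : x ∉ conjugatesOf d := by
    intro hxD
    have h2 : (d * x) ^ 2 = 1 := by
      rw [hdx.mul_pow, pow_two, pow_two, Involution.mul_self hd, Involution.mul_self hx, one_mul]
    have h3 : Nat.Coprime (orderOf (d * x)) 2 := Nat.coprime_two_right.2 (hodd d mem_conjugatesOf_self x hxD)
    have h4 : d * x = 1 :=
      orderOf_eq_one_iff.1 (Nat.eq_one_of_dvd_coprimes h3 dvd_rfl (orderOf_dvd_of_pow_eq_one h2))
    exact hxd (inv_eq_of_mul_eq_one_right h4 ▸ Involution.inv_eq hd)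
  have hdx2 : orderOf (d * x) = 2 := by
    refine Involution.orderOf_of_sq ?_ fun h4 => hxd (inv_eq_of_mul_eq_one_right h4 ▸ Involution.inv_eq hd)
    rw [← pow_two, hdx.mul_pow, pow_two, pow_two, Involution.mul_self hd, Involution.mul_self hx, one_mul]
  obtain ⟨⟨j, hj⟩, -⟩ := class_in_centralizer hp hp2 hd hprod ih (fun h => hZ _ h hdx2)
    ((Commute.refl d).mul_right hdx)
  set A : Set G := {a | a ∈ conjugatesOf d ∧ Commute a x}
  let B : G → Set G := fun a => {e | e ∈ conjugatesOf d ∧ Commute e (a * x)}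
  have hB : ∀ a : A, Nat.card (B a) = Nat.card (B d) := by
    rintro ⟨a, ha, hax⟩
    obtain ⟨h, hhx, rfl⟩ := hAconj a ha hax
    have hax' : h * d * h⁻¹ * x = MulAut.conj h (d * x) := by
      rw [MulAut.conj_apply, mul_assoc (h * d), hhx.inv_left.eq]; group
    refine (Nat.card_congr ((MulAut.conj h).toEquiv.subtypeEquiv fun e => ?_)).symm
    show (e ∈ conjugatesOf d ∧ Commute e (d * x)) ↔
      (MulAut.conj h e ∈ conjugatesOf d ∧ Commute (MulAut.conj h e) (h * d * h⁻¹ * x))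
    rw [hax']
    refine ⟨fun he => ⟨IsConj.trans he.1 (isConj_iff.2 ⟨h, rfl⟩), he.2.map (MulAut.conj h)⟩, fun he => ?_⟩
    refine ⟨IsConj.trans he.1 (isConj_iff.2 ⟨h⁻¹, by simp [MulAut.conj_apply, mul_assoc]⟩), ?_⟩
    have := he.2.map (MulAut.conj h).symm
    rwa [MulEquiv.symm_apply_apply, MulEquiv.symm_apply_apply] at this
  let f : (Σ a : A, B a) → conjugatesOf d := fun s => ⟨s.2, s.2.2.1⟩
  have hf : Function.Bijective f := by
    constructor
    · rintro ⟨⟨a, ha, hax⟩, ⟨e, he, hea⟩⟩ ⟨⟨a', ha', hax'⟩, ⟨e', he', hea'⟩⟩ heq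
      have hee : e = e' := congrArg Subtype.val heq
      subst hee
      have : a = a' := (Cfsg.Agent.S5562.result d hd hodd x hx e he).unique ⟨ha, hax, hea⟩ ⟨ha', hax', hea'⟩
      subst this
      rfl
    · rintro ⟨e, he⟩
      obtain ⟨a, ⟨ha, hax, hea⟩, -⟩ := Cfsg.Agent.S5562.result d hd hodd x hx e he
      exact ⟨⟨⟨a, ha, hax⟩, ⟨e, he, hea⟩⟩, rfl⟩
  refine ⟨i + j, ?_⟩
  haveI : Fintype A := Fintype.ofFinite _
  rw [← Nat.card_congr (Equiv.ofBijective f hf), Nat.card_sigma, Finset.sum_congr rfl fun a _ => hB a,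
    Finset.sum_const, Finset.card_univ, ← Nat.card_eq_fintype_card, smul_eq_mul, hi, pow_add]
  exact congrArg _ hj

theorem exists_invariant_sylow_of_no_pnormal [Finite G] {p : ℕ} (hp : p.Prime) (hp2 : p ≠ 2) {d : G}
    (hd : orderOf d = 2) (hprod : ProdPow p d) (ih : SmallerOK.{u} p (Nat.card G))
    (hnop : ∀ N : Subgroup G, N.Normal → IsPGroup p N → N = ⊥)
    {a : G} (ha : a ∈ conjugatesOf d) (had : a ≠ d) :
    ∃ P : Subgroup G, (∃ v, Nat.card P = p ^ v ∧ ¬ p ^ (v + 1) ∣ Nat.card G) ∧ ∀ x ∈ P, d * x * d⁻¹ ∈ P := by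
  haveI : Fact p.Prime := ⟨hp⟩
  set R0 := zpowers (d * a)
  have hR0 : IsPGroup p R0 ∧ ∀ x ∈ R0, d * x * d⁻¹ ∈ R0 := by
    obtain ⟨k, hk⟩ := hprod d mem_conjugatesOf_self a ha
    refine ⟨IsPGroup.of_card (n := k) (by rw [Nat.card_zpowers, hk]), ?_⟩
    rintro _ ⟨j, rfl⟩
    show d * (d * a) ^ j * d⁻¹ ∈ R0
    rw [Involution.inverts_zpow (Involution.inverts_mul_left hd (orderOf_of_mem hd ha)) j]
    exact R0.inv_mem ⟨j, rfl⟩
  obtain ⟨R, hR0R, hmax⟩ := Set.Finite.exists_le_maximal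
    (Set.toFinite {R : Subgroup G | IsPGroup p R ∧ ∀ x ∈ R, d * x * d⁻¹ ∈ R}) hR0
  obtain ⟨⟨hRp, hRd⟩, hRmax⟩ := hmax
  have hRne : R ≠ ⊥ := by
    intro h
    have : d * a = 1 := (Subgroup.eq_bot_iff_forall _).1 h _ (hR0R (mem_zpowers _))
    exact had (inv_eq_of_mul_eq_one_right this ▸ Involution.inv_eq hd)
  set N : Subgroup G := normalizer (R : Set G) with hNdef
  have hNtop : N ≠ ⊤ := fun h => hRne (hnop R (Subgroup.normalizer_eq_top_iff.1 h) hRp)
  have hdd : d⁻¹ = d := Involution.inv_eq hd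
  have hdN : d ∈ N := by
    rw [hNdef, Subgroup.mem_normalizer_iff]
    refine fun x => ⟨hRd x, fun h => ?_⟩
    have := hRd _ h
    rwa [hdd, show d * (d * x * d) * d = (d * d) * x * (d * d) by group, Involution.mul_self hd, one_mul,
      mul_one] at this
  obtain ⟨O, hON, hOp, hOn, hcl, hmaxO⟩ := sub_class hp hp2 hd hprod ih N hNtop hdN
  have hRO : R ≤ O := hmaxO R Subgroup.le_normalizer hRp
    fun k hk x hx => (Subgroup.mem_normalizer_iff.1 hk x).1 hx
  have hOR : O ≤ R := hRmax ⟨hOp, fun x hx => hOn d hdN x hx⟩ hRO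
  have horb : orb N d = orb R d := by
    refine Set.Subset.antisymm ?_ (orb_mono Subgroup.le_normalizer d)
    rintro _ ⟨k, rfl⟩
    obtain ⟨h, hh, hha⟩ := hcl _ (orb_subset N d ⟨k, rfl⟩) (N.mul_mem (N.mul_mem k.2 hdN) (N.inv_mem k.2))
    exact ⟨⟨h, hOR hh⟩, hha⟩
  set CN := N ⊓ centralizer ({d} : Set G) with hCN
  obtain ⟨W⟩ : Nonempty (Sylow p CN) := inferInstance
  set W' := (W : Subgroup CN).map CN.subtype with hW'
  have hW'C : W' ≤ CN := Subgroup.map_subtype_le _
  have hW'R : W' ≤ R := by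
    refine le_trans le_sup_left (hRmax ⟨(W.isPGroup'.map _).to_sup_of_normal_right' hRp
      (le_trans hW'C inf_le_left), ?_⟩ le_sup_right)
    have hmap : (W' ⊔ R).map (MulAut.conj d).toMonoidHom ≤ W' ⊔ R := by
      rw [Subgroup.map_sup]
      refine sup_le_sup ?_ ?_
      · rintro _ ⟨w, hw, rfl⟩
        have hwd := Involution.mem_centralizer_singleton.1 (hW'C hw).2
        simpa [MulAut.conj_apply, ← hwd] using hw
      · rintro _ ⟨r, hr, rfl⟩
        simpa [MulAut.conj_apply] using hRd r hr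
    intro x hx
    simpa [MulAut.conj_apply] using hmap ⟨x, hx, rfl⟩
  obtain ⟨v, hv⟩ := IsPGroup.iff_card.1 hRp
  refine ⟨R, ⟨v, hv, fun hdvd => ?_⟩, hRd⟩
  have hN1 : p ^ (v + 1) ∣ Nat.card N := Sylow.prime_pow_dvd_card_normalizer hdvd hv
  have h1 := card_orb_mul R d
  have h2 := card_orb_mul N d
  rw [horb, ← hCN] at h2
  have hW'card : p ^ (Nat.card CN).factorization p ∣ Nat.card ↥(R ⊓ centralizer ({d} : Set G)) := by
    rw [← Sylow.card_eq_multiplicity W, ← Subgroup.card_map_of_injective CN.subtype_injective]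
    exact card_dvd_of_le (le_inf hW'R (le_trans hW'C inf_le_right))
  have h3 : Nat.card (orb R d) * p ^ (Nat.card CN).factorization p ∣ p ^ v := by
    rw [← hv, ← h1]; exact Nat.mul_dvd_mul_left _ hW'card
  have h4 := Nat.ordProj_mul_ordCompl_eq_self (Nat.card CN) p
  have h5 : Nat.card N ∣ p ^ v * (Nat.card CN / p ^ (Nat.card CN).factorization p) := by
    rw [← h2]
    conv_lhs => rw [← h4, ← mul_assoc]
    exact Nat.mul_dvd_mul_right h3 _
  have h6 : p ^ (v + 1) ∣ p ^ v * (Nat.card CN / p ^ (Nat.card CN).factorization p) := hN1.trans h5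
  rw [pow_succ] at h6
  exact Nat.not_dvd_ordCompl hp Nat.card_pos.ne' ((Nat.mul_dvd_mul_iff_left (pow_pos hp.pos v)).1 h6)

theorem goal_of_normal_pgroup [Finite G] {p : ℕ} (hp : p.Prime) (hp2 : p ≠ 2) {d : G} (hd : orderOf d = 2)
    (hprod : ProdPow p d) (ih : SmallerOK.{u} p (Nat.card G)) (L : Subgroup G) [L.Normal]
    (hL : IsPGroup p L) (hne : L ≠ ⊥) : Goal p d := by
  haveI : Fact p.Prime := ⟨hp⟩
  let f := QuotientGroup.mk' L
  have hdL : d ∉ L := by
    intro h
    obtain ⟨k, hk⟩ := (IsPGroup.iff_orderOf).1 hL ⟨d, h⟩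
    rw [← Subgroup.orderOf_coe, hd] at hk
    have h2 : Odd (p ^ k) := (hp.odd_of_ne_two hp2).pow
    rw [← hk] at h2
    exact absurd h2 (by decide)
  have hd2 : orderOf (f d) = 2 := by
    refine Involution.orderOf_of_sq ?_ fun h => hdL ((QuotientGroup.eq_one_iff _).1 h)
    rw [← map_mul, Involution.mul_self hd, map_one]
  have hlift : ∀ a ∈ conjugatesOf (f d), ∃ a' ∈ conjugatesOf d, f a' = a := by
    intro a ha
    obtain ⟨c, rfl⟩ := isConj_iff.1 ha
    obtain ⟨c', rfl⟩ := QuotientGroup.mk'_surjective L c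
    exact ⟨c' * d * c'⁻¹, isConj_iff.2 ⟨c', rfl⟩, by rw [map_mul, map_mul, map_inv]⟩
  have hPP : ProdPow p (f d) := by
    intro a ha b hb
    obtain ⟨a', ha', rfl⟩ := hlift a ha
    obtain ⟨b', hb', rfl⟩ := hlift b hb
    obtain ⟨k, hk⟩ := hprod a' ha' b' hb'
    obtain ⟨j, -, hj⟩ := (Nat.dvd_prime_pow hp).1 (hk ▸ orderOf_map_dvd f (a' * b'))
    exact ⟨j, by rw [← map_mul]; exact hj⟩
  have hlt : Nat.card (G ⧸ L) < Nat.card G := by
    rw [Subgroup.card_eq_card_quotient_mul_card_subgroup L]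
    exact lt_mul_of_one_lt_right Nat.card_pos ((Subgroup.one_lt_card_iff_ne_bot _).2 hne)
  intro a ha b hb
  refine Cores.comap_pCore_le f (by rw [QuotientGroup.ker_mk']; exact hL) ?_
  rw [Subgroup.mem_comap, map_mul]
  exact ih _ (f d) hlt hd2 hPP _ (f.map_isConj ha) _ (f.map_isConj hb)

theorem goal_of_central_involution [Finite G] {p : ℕ} (hp : p.Prime) (hp2 : p ≠ 2) {d : G} (hd : orderOf d = 2)
    (hprod : ProdPow p d) (ih : SmallerOK.{u} p (Nat.card G)) {z : G} (hz : z ∈ center G) (hz2 : orderOf z = 2) :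
    Goal p d := by
  haveI : Fact p.Prime := ⟨hp⟩
  by_cases hzd : z = d
  · subst hzd
    intro a ha b hb
    have hc : ∀ c ∈ conjugatesOf z, c = z := fun c hc => by
      obtain ⟨g, rfl⟩ := isConj_iff.1 hc
      rw [Subgroup.mem_center_iff.1 hz g, mul_inv_cancel_right]
    rw [hc a ha, hc b hb, Involution.mul_self hd]
    exact Subgroup.one_mem _
  set Z := zpowers z
  haveI : Z.Normal := ⟨fun n hn g => by
    have hnc : n ∈ center G := (Subgroup.zpowers_le.2 hz) hn
    rwa [Subgroup.mem_center_iff.1 hnc g, mul_inv_cancel_right]⟩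
  let f := QuotientGroup.mk' Z
  have hd2 : orderOf (f d) = 2 := by
    refine Involution.orderOf_of_sq ?_ fun h => ?_
    · rw [← map_mul, Involution.mul_self hd, map_one]
    obtain ⟨k, hk⟩ := (QuotientGroup.eq_one_iff _).1 h
    rcases Int.even_or_odd k with ⟨l, hl⟩ | ⟨l, hl⟩
    · apply Involution.ne_one hd
      rw [← hk]
      show z ^ k = 1
      rw [hl, ← two_mul, zpow_mul, zpow_two, Involution.mul_self hz2, one_zpow]
    · apply hzd
      rw [← hk]
      show z = z ^ k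
      rw [hl, zpow_add_one, zpow_mul, zpow_two, Involution.mul_self hz2, one_zpow, one_mul]
  have hlift : ∀ a ∈ conjugatesOf (f d), ∃ a' ∈ conjugatesOf d, f a' = a := by
    intro a ha
    obtain ⟨c, rfl⟩ := isConj_iff.1 ha
    obtain ⟨c', rfl⟩ := QuotientGroup.mk'_surjective Z c
    exact ⟨c' * d * c'⁻¹, isConj_iff.2 ⟨c', rfl⟩, by rw [map_mul, map_mul, map_inv]⟩
  have hPP : ProdPow p (f d) := by
    intro a ha b hb
    obtain ⟨a', ha', rfl⟩ := hlift a ha
    obtain ⟨b', hb', rfl⟩ := hlift b hb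
    obtain ⟨k, hk⟩ := hprod a' ha' b' hb'
    obtain ⟨j, -, hj⟩ := (Nat.dvd_prime_pow hp).1 (hk ▸ orderOf_map_dvd f (a' * b'))
    exact ⟨j, by rw [← map_mul]; exact hj⟩
  have hZcard : Nat.card Z = 2 := by rw [Nat.card_zpowers, hz2]
  have hlt : Nat.card (G ⧸ Z) < Nat.card G := by
    rw [Subgroup.card_eq_card_quotient_mul_card_subgroup Z, hZcard]
    exact lt_mul_of_one_lt_right Nat.card_pos (by norm_num)
  have hgoal := ih _ (f d) hlt hd2 hPP
  set S := Cfsg.pCore p (G ⧸ Z)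
  set W := S.comap f with hW
  obtain ⟨K, hK⟩ := IsPGroup.iff_card.1 (Cores.isPGroup_pCore p (G ⧸ Z))
  have hWcard : Nat.card W = p ^ K * 2 := by
    have hker : Nat.card (f.subgroupComap S).ker = 2 := by
      rw [← hZcard]
      refine Nat.card_congr ⟨fun x => ⟨((x : W) : G), (QuotientGroup.eq_one_iff _).1 (congrArg Subtype.val x.2)⟩,
        fun x => ⟨⟨x, by
          show f (x : G) ∈ S
          rw [show f (x : G) = 1 from (QuotientGroup.eq_one_iff _).2 x.2]
          exact S.one_mem⟩, Subtype.ext ((QuotientGroup.eq_one_iff _).2 x.2)⟩,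
        fun _ => rfl, fun _ => rfl⟩
    have hindex : (f.subgroupComap S).ker.index = p ^ K := by
      rw [Subgroup.index_ker, MonoidHom.range_eq_top.2
        (MonoidHom.subgroupComap_surjective_of_surjective f S (QuotientGroup.mk'_surjective Z)),
        Subgroup.card_top]
      exact hK
    have := (f.subgroupComap S).ker.card_mul_index
    rw [hker, hindex] at this
    rw [← this, mul_comm]
  obtain ⟨P⟩ : Nonempty (Sylow p W) := inferInstance
  have hfac : (p ^ K * 2).factorization p = K := by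
    rw [Nat.factorization_mul (pow_ne_zero _ hp.ne_zero) two_ne_zero, Finsupp.add_apply,
      hp.factorization_pow, Finsupp.single_eq_same,
      Nat.factorization_eq_zero_of_not_dvd fun h => hp2 ((Nat.prime_dvd_prime_iff_eq hp Nat.prime_two).1 h),
      add_zero]
  have hPcard : Nat.card (P : Subgroup W) = p ^ K := by
    rw [Sylow.card_eq_multiplicity P, hWcard, hfac]
  have hPindex : (P : Subgroup W).index = 2 := by
    have := (P : Subgroup W).card_mul_index
    rw [hPcard, hWcard] at this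
    exact Nat.eq_of_mul_eq_mul_left (pow_pos hp.pos K) this
  haveI hPn : (P : Subgroup W).Normal := Subgroup.normal_of_index_eq_two hPindex
  haveI : (P : Subgroup W).Characteristic := Sylow.characteristic_of_normal P hPn
  have hmap : ((P : Subgroup W).map W.subtype) ≤ Cfsg.pCore p G :=
    Cores.le_pCore (Cores.map_subtype_normal_of_characteristic W _) (P.isPGroup'.map _)
  intro a ha b hb
  have habW : a * b ∈ W := by
    show f (a * b) ∈ S
    rw [map_mul]
    exact hgoal _ (f.map_isConj ha) _ (f.map_isConj hb)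
  refine hmap ⟨⟨a * b, habW⟩, ?_, rfl⟩
  obtain ⟨k, hk⟩ := hprod a ha b hb
  have hzp : IsPGroup p (zpowers (⟨a * b, habW⟩ : W)) :=
    IsPGroup.of_card (n := k) (by rw [Nat.card_zpowers, ← Subgroup.orderOf_coe]; exact hk)
  obtain ⟨Q, hQ⟩ := hzp.exists_le_sylow
  haveI := Sylow.unique_of_normal P hPn
  rw [Subsingleton.elim P Q]
  exact hQ (mem_zpowers _)

theorem main_induction (hU : UniqueInvolutionZStar.{u}) {p : ℕ} (hp : p.Prime) (hp2 : p ≠ 2) (n : ℕ) :
    ∀ (G : Type u) [Group G] [Finite G] (d : G), Nat.card G = n → orderOf d = 2 → ProdPow p d → Goal p d := by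
  induction n using Nat.strong_induction_on with
  | _ n ihn =>
    intro G _ _ d hn hd hprod
    have ih : SmallerOK.{u} p (Nat.card G) := fun K _ _ e hlt he hPP => ihn _ (hn ▸ hlt) K e rfl he hPP
    haveI : Fact p.Prime := ⟨hp⟩
    haveI : Fact (Nat.Prime 2) := ⟨Nat.prime_two⟩
    by_cases hZ : ∃ z ∈ center G, orderOf z = 2
    · obtain ⟨z, hz, hz2⟩ := hZ
      exact goal_of_central_involution hp hp2 hd hprod ih hz hz2
    push Not at hZ
    by_cases hx : ∃ x, orderOf x = 2 ∧ x ≠ d ∧ Commute d x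
    swap
    · push Not at hx
      obtain ⟨T, hT⟩ := (IsPGroup.of_card (p := 2) (n := 1) (G := zpowers d)
        (by rw [Nat.card_zpowers, hd, pow_one])).exists_le_sylow
      have hdT : d ∈ T := hT (mem_zpowers d)
      obtain ⟨N, hN, hNodd, hcom⟩ := hU G d T hd hdT fun t ht ht2 => by
        by_contra htd
        haveI : Nontrivial (T : Subgroup G) :=
          ⟨⟨⟨d, hdT⟩, 1, fun h => Involution.ne_one hd (congrArg Subtype.val h)⟩⟩
        haveI := T.isPGroup'.center_nontrivial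
        obtain ⟨c, hc⟩ := exists_prime_orderOf_dvd_card' (G := center (T : Subgroup G)) 2 (by
          obtain ⟨m, hm⟩ := IsPGroup.iff_card.1 (T.isPGroup'.to_subgroup (center (T : Subgroup G)))
          rw [hm]
          refine dvd_pow_self 2 ?_
          rintro rfl
          rw [pow_zero] at hm
          exact absurd hm Finite.one_lt_card.ne')
        set z : G := ((c : (T : Subgroup G)) : G)
        have hz2 : orderOf z = 2 := by rw [Subgroup.orderOf_coe, Subgroup.orderOf_coe, hc]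
        have hzc : ∀ t ∈ T, Commute t z := fun t ht => congrArg Subtype.val
          (Subgroup.mem_center_iff.1 c.2 ⟨t, ht⟩)
        by_cases hzd : z = d
        · exact hx t ht2 htd (hzd ▸ (hzc t ht).symm)
        · exact hx z hz2 hzd (hzc d hdT)
      exact goal_of_odd_normal hp hp2 hd hprod N hNodd hcom
    obtain ⟨x, hx2, hxd, hdx⟩ := hx
    obtain ⟨r, hr⟩ := card_class_pow hp hp2 hd hprod ih hZ hx2 hxd hdx
    by_cases hL : ∃ L : Subgroup G, L.Normal ∧ IsPGroup p L ∧ L ≠ ⊥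
    · obtain ⟨L, hLn, hLp, hLne⟩ := hL
      exact goal_of_normal_pgroup hp hp2 hd hprod ih L hLp hLne
    push Not at hL
    by_cases hone : ∀ a ∈ conjugatesOf d, a = d
    · intro a ha b hb
      rw [hone a ha, hone b hb, Involution.mul_self hd]
      exact Subgroup.one_mem _
    push Not at hone
    obtain ⟨a, ha, had⟩ := hone
    obtain ⟨P, ⟨v, hv, hvmax⟩, hPd⟩ :=
      exists_invariant_sylow_of_no_pnormal hp hp2 hd hprod ih hL ha had
    have heq := orb_eq_of_pow hp (le_top (a := P)) d (i := r) (by rw [orb_top]; exact hr) hv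
      (by rwa [Subgroup.card_top])
    refine goal_of_pgroup hd P (IsPGroup.of_card hv) fun e he => ?_
    rw [← orb_top d, ← heq] at he
    obtain ⟨y, rfl⟩ := he
    show d * ((y : G) * d * (y : G)⁻¹) ∈ P
    rw [← commutator_eq_mul hd]
    exact P.mul_mem (hPd y y.2) (P.inv_mem y.2)

theorem goal_of_unique_case (hU : UniqueInvolutionZStar.{u}) [Finite G] {p : ℕ} (hp : p.Prime) (hp2 : p ≠ 2)
    {d : G} (hd : orderOf d = 2) (hprod : ProdPow p d) : Goal p d :=
  main_induction hU hp hp2 _ G d rfl hd hprod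

end Cfsg.Agent.ZStarPrimePower
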